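import Groth.Agent.Lib.ExtPowX.Pullback
import Groth.Prelude.Def_ExtPow2

/-!
# Exterior powers restrict to opens
-/

set_option autoImplicit false
set_option linter.style.haveILetI false
set_option backward.isDefEq.respectTransparency false

universe u

open CategoryTheory CategoryTheory.Limits AlgebraicGeometry Opposite

noncomputable section

namespace GrothLib.NormalDual22

section Trans

variable {R : Type u} [CommRing R] {M N : Type u} [AddCommGroup M] [AddCommGroup N] (k : ℕ)

/-- Transport along equal module structures. -/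
def transE {iM iM' : Module R M} {iN iN' : Module R N} (hM : iM' = iM) (hN : iN' = iN)
    (φ : letI := iM; letI := iN; N ≃ₗ[R] ↥(⋀[R]^k M)) :
    letI := iM'; letI := iN'; N ≃ₗ[R] ↥(⋀[R]^k M) := by
  subst hM
  subst hN
  exact φ

theorem transE_symm {iM iM' : Module R M} {iN iN' : Module R N} (hM : iM' = iM) (hN : iN' = iN)
    (φ : letI := iM; letI := iN; N ≃ₗ[R] ↥(⋀[R]^k M)) (e : Fin k → M) :
    (letI := iM'; letI := iN'; (transE k hM hN φ).symm (exteriorPower.ιMulti R k e)) =
      (letI := iM; letI := iN; φ.symm (exteriorPower.ιMulti R k e)) := by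
  subst hM
  subst hN
  rfl

end Trans

variable {X : Scheme.{u}}

theorem secModule_restrict (U : X.Opens) (E : X.Modules) (W : U.toScheme.Opens) :
    ExtPow.secModule (E.restrict U.ι) W = (ExtPow.secModule E (U.ι ''ᵁ W) : Module Γ(X, U.ι ''ᵁ W) _) := by
  refine Module.ext (funext fun c => funext fun m => ?_)
  show ((U.ι.appIso W).inv c) • (show Γ(E, U.ι ''ᵁ W) from m) = _
  rw [Scheme.Opens.ι_appIso]
  rfl

/-- The restriction of an exterior power to an open is an exterior power. -/
theorem isExtPow_restrict (U : X.Opens) {k : ℕ} {E L : X.Modules} (hL : ExtPow.IsExtPow k E L) :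
    ExtPow.IsExtPow k (E.restrict U.ι) (L.restrict U.ι) := by
  obtain ⟨φ, hφ⟩ := hL
  refine ⟨fun W => transE k (secModule_restrict U E W.1) (secModule_restrict U L W.1)
    (φ ⟨U.ι ''ᵁ W.1, W.2.image_of_isOpenImmersion U.ι⟩), fun W V h e => ?_⟩
  rw [transE_symm k (secModule_restrict U E W.1) (secModule_restrict U L W.1),
    transE_symm k (secModule_restrict U E V.1) (secModule_restrict U L V.1)]
  exact hφ ⟨U.ι ''ᵁ W.1, W.2.image_of_isOpenImmersion U.ι⟩ ⟨U.ι ''ᵁ V.1, V.2.image_of_isOpenImmersion U.ι⟩
    (Scheme.Hom.image_mono _ h) e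

end GrothLib.NormalDual22
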