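import Groth.Agent.Lib.NormalDual22.Restrict
import Groth.Agent.Lib.SmoothDual22.Main
import Groth.Agent.Lib.RhoShBig.DDual
import Groth.Agent.Lib.Ref1.Extend
import Groth.Agent.Lib.Ref1.Push
import Groth.Agent.Lib.Ref1.Connected
import Groth.Agent.Lib.LM28.HomIso
import Groth.Agent.Lib.CanonTriv.Basic
import Groth.Agent.Lib.DetMod12.ExtCoh
import Groth.Agent.Lib.DimCut.Product
import Groth.Agent.Lib.DualRing.CanonStalk
import Groth.Agent.Lib.ShriekBridge22.Fibre
import Groth.Agent.Lib.ShriekBridge22.Dualizing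
import Groth.Agent.Lib.ShriekBridge22.FieldScheme
import Groth.Agent.Lib.OX.AffineApps
import Groth.Agent.S1561
import Groth.Agent.Lib.DQEquiv25.Equiv
import Groth.Agent.Lib.AlgSp.FieldBase
import Groth.Agent.Lib.ShriekBridge22.OneDeg
import Groth.Agent.Lib.FinCov.Frame
import Groth.Agent.Lib.OX.OneDegLocus

/-!
# The dualizing sheaf of a normal variety over a perfect field
-/

set_option autoImplicit false
set_option maxHeartbeats 1000000
set_option linter.style.haveILetI false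
set_option backward.isDefEq.respectTransparency false

universe u

open CategoryTheory CategoryTheory.Limits AlgebraicGeometry

attribute [local instance] HasDerivedCategory.standard

noncomputable section

namespace GrothLib.NormalDual22

variable {X : Scheme.{u}}

/-- Functions have reflexive stalks. -/
theorem isReflexiveAt_structure (x : X) : RefHull.IsReflexiveAt (Coh.structureModule X) x :=
  Module.equiv (HomSh.unitStalk x)

/-- The biduality unit of a module with reflexive stalks across a big open. -/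
theorem isIso_unit_of_reflexive [IsIntegral X] [IsLocallyNoetherian X] (hX : Pi1.IsNormalScheme X)
    {F : X.Modules} (hF : Coh.IsCoh F) (hR : ∀ x, RefHull.IsReflexiveAt F x) (U : X.Opens)
    (hU : ∀ x : X, x ∉ U → (2 : WithBot ℕ∞) ≤ ringKrullDim (X.presheaf.stalk x)) :
    IsIso ((Scheme.Modules.restrictAdjunction U.ι).unit.app F) :=
  haveI := hF.1
  (Ref1.isIso_unit_iff F U).2 fun W =>
    Ref1.bijective_res_of_isReflexiveAt hX (HomSh.hasRel_of_isCoh hF) inf_le_left (fun y _ => hR y)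
      fun y hy hy' => hU y fun h => hy' ⟨hy, h⟩

/-- A coherent module with reflexive stalks agreeing with a double dual on a big open is the double dual. -/
theorem nonempty_iso_ddual [IsIntegral X] [IsLocallyNoetherian X] (hX : Pi1.IsNormalScheme X)
    {F W : X.Modules} (hF : Coh.IsCoh F) (hR : ∀ x, RefHull.IsReflexiveAt F x) (U : X.Opens)
    (hU : ∀ x : X, x ∉ U → (2 : WithBot ℕ∞) ≤ ringKrullDim (X.presheaf.stalk x))
    (hgen : ∀ x ∈ U, ∃ (V : X.Opens) (e : Γ(W, V)), x ∈ V ∧ InvExt.IsGen W V e)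
    (e : F.restrict U.ι ≅ W.restrict U.ι) : Nonempty (F ≅ RefHull.ddual W) := by
  have hb : ∀ T : X.Opens, Function.Bijective (X.presheaf.map (homOfLE (inf_le_left : T ⊓ U ≤ T)).op) := fun T =>
    (Ref1.isIso_unit_iff (Coh.structureModule X) U).1
      (isIso_unit_of_reflexive hX (HomSh.isCoh_structureModule X) isReflexiveAt_structure U hU) T
  haveI := RhoShBig.isIso_unit_dual U hb (RefHull.dual W)
  haveI := isIso_unit_of_reflexive hX hF hR U hU
  haveI := RhoShBig.isIso_restrict_bidual (M := W) U hgen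
  exact ⟨asIso ((Scheme.Modules.restrictAdjunction U.ι).unit.app F) ≪≫
    (Scheme.Modules.pushforward U.ι).mapIso
      (e ≪≫ asIso ((Scheme.Modules.restrictFunctor U.ι).map (RefHull.bidualMap W))) ≪≫
    (asIso ((Scheme.Modules.restrictAdjunction U.ι).unit.app (RefHull.ddual W))).symm⟩

/-- The two double duals agree. -/
theorem nonempty_ddual_iso [IsLocallyNoetherian X] {W : X.Modules} (hW : Coh.IsCoh W) [DCoh.HasSheafHom W]
    [DCoh.HasSheafHom ((DCoh.sheafHom W).obj (Coh.structureModule X))] :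
    Nonempty (RefHull.ddual W ≅
      (DCoh.sheafHom ((DCoh.sheafHom W).obj (Coh.structureModule X))).obj (Coh.structureModule X)) := by
  obtain ⟨a⟩ := LM28.nonempty_homSh_iso_coh W (Coh.structureModule X) hW (HomSh.isCoh_structureModule X)
  have hd : Coh.IsCoh (RefHull.dual W) := HomSh.isCoh_dual (HomSh.hasRel_of_isCoh hW)
  haveI : DCoh.HasSheafHom (RefHull.dual W) := LocFreeHom.hasSheafHom _
  obtain ⟨b⟩ := LM28.nonempty_homSh_iso_coh (RefHull.dual W) (Coh.structureModule X) hd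
    (HomSh.isCoh_structureModule X)
  exact ⟨b ≪≫ LocFreeHom.iHomCongr a.symm (Iso.refl _)⟩

theorem isNonzero_of_isInvertible [Nonempty X] {L : X.Modules} (hL : PicF.IsInvertible L) : ¬ IsZero L := by
  intro hz
  obtain ⟨U, hxU, ⟨e⟩⟩ := hL (Classical.arbitrary X)
  have h : IsZero (Coh.structureModule (U : Scheme.{u})) :=
    ((Scheme.Modules.restrictFunctor U.ι).map_isZero hz).of_iso e.symm
  haveI : Nonempty U := ⟨⟨_, hxU⟩⟩
  have h2 := GrothLib.DQEquiv25.subsingleton_app_of_isZero h ⊤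
  haveI : Nonempty (⊤ : (U : Scheme.{u}).Opens) := ⟨⟨Classical.arbitrary _, trivial⟩⟩
  haveI : Nontrivial Γ((U : Scheme.{u}), ⊤) := Scheme.component_nontrivial (U : Scheme.{u}) ⊤
  exact not_subsingleton Γ((U : Scheme.{u}), ⊤) h2

set_option maxHeartbeats 2000000 in
/-- The dualizing sheaf of a normal variety over a perfect field is the double dual of the top differentials. -/
theorem nonempty_iso (k : Type u) [Field k] [PerfectField k]
    (p : X ⟶ Spec (CommRingCat.of k)) [Dual3.IsSepFT p] [ConnectedSpace X] (hX : Pi1.IsNormalScheme X)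
    (n : ℕ) (hdim : topologicalKrullDim X = (n : WithBot ℕ∞))
    (c : DEt.Compactification p) [DCoh.HasRpush c.fbar] (hc : DCoh.RpushPreservesQCoh c.fbar)
    {a : DCoh.DQCoh (Spec (CommRingCat.of k)) ⥤ DCoh.DQCoh c.Xbar} (adj : DCoh.RpushQ c.fbar hc ⊣ a)
    [∀ (U V : Scheme.{u}) (j : U ⟶ V) [IsOpenImmersion j], PreservesFiniteLimits (Scheme.Modules.restrictFunctor j)]
    (O : DCoh.DQCoh (Spec (CommRingCat.of k)))
    (hO : Nonempty (O.obj ≅ DCoh.inD (Spec (CommRingCat.of k)) (Coh.structureModule (Spec (CommRingCat.of k)))))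
    (W : X.Modules) (hW : ExtPow.IsExtPow n (Omega.sheaf p) W) [DCoh.HasSheafHom W]
    [DCoh.HasSheafHom ((DCoh.sheafHom W).obj (Coh.structureModule X))] :
    Nonempty (DCoh.HD ((Dual3.shriekC c a).obj O) (-(n : ℤ)) ≅
      (DCoh.sheafHom ((DCoh.sheafHom W).obj (Coh.structureModule X))).obj (Coh.structureModule X)) := by
  haveI : LocallyOfFiniteType p := Dual3.IsSepFT.locallyOfFiniteType
  haveI : QuasiCompact p := Dual3.IsSepFT.quasiCompact
  haveI : IsSeparated p := Dual3.IsSepFT.isSeparated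
  haveI : IsLocallyNoetherian X := LocallyOfFiniteType.isLocallyNoetherian p
  haveI : CompactSpace X := QuasiCompact.compactSpace_of_compactSpace p
  haveI : AlgebraicGeometry.IsNoetherian X := {}
  haveI : IsIntegral X := Ref1.isIntegral_of_connected fun x => (hX x).1
  haveI : LocallyOfFinitePresentation p := inferInstance
  haveI : Flat p := GrothLib.AlgSp.flat_to_field p
  let K := (Dual3.shriekC c a).obj O
  -- the smooth locus
  letI : X.Over (Spec (CommRingCat.of k)) := ⟨p⟩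
  haveI : LocallyOfFinitePresentation (X ↘ Spec (CommRingCat.of k)) := ‹LocallyOfFinitePresentation p›
  obtain ⟨hreg, hdense⟩ := Groth.Agent.S1561.result k X
  let V : X.Opens := p.smoothLocus
  have hcod : ∀ x : X, x ∉ V → (2 : WithBot ℕ∞) ≤ ringKrullDim (X.presheaf.stalk x) := fun x hx =>
    Ref1.two_le_of_not_le_one fun h => hx ((hreg x).2 (Ref1.isRegularLocalRing_of_dim_le_one hX h))
  have hVne : (V : Set X).Nonempty := hdense.nonempty
  haveI : Nonempty (V : Scheme.{u}) := hVne.to_subtype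
  haveI : Smooth (V.ι ≫ p) := GenericSmooth.smooth_smoothLocus_ι_comp p
  haveI : IsIntegral (V : Scheme.{u}) := isIntegral_of_isOpenImmersion V.ι
  haveI : SmoothOfRelativeDimension n (V.ι ≫ p) := DimCut.smoothOfRelativeDimension (V.ι ≫ p) n
    ((DimCut.dim_opens_eq p V hVne.to_subtype).trans hdim)
  haveI : AlgebraicGeometry.IsNoetherian (V : Scheme.{u}) :=
    GrothLib.RightAdj22.isNoetherian_of_openImmersion V.ι
  haveI : Dual3.IsSepFT (V.ι ≫ p) := ⟨inferInstance, inferInstance, inferInstance⟩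
  haveI := c.isOpenImmersion
  let cV : DEt.Compactification (V.ι ≫ p) :=
    ⟨c.Xbar, V.ι ≫ c.j, c.fbar, inferInstance, c.isProper, by rw [Category.assoc, c.fac]⟩
  haveI : DCoh.HasRpush cV.fbar := ‹DCoh.HasRpush c.fbar›
  -- differentials on the smooth locus
  obtain ⟨eΩ⟩ := OmegaSheaf.nonempty_pullback_sheaf V.ι p
  let eΩ' : (Omega.sheaf p).restrict V.ι ≅ Omega.sheaf (V.ι ≫ p) :=
    (Scheme.Modules.restrictFunctorIsoPullback V.ι).app _ ≪≫ eΩ
  have hΩ := CanonTriv.isFinLocFreeOfRank_sheaf (V.ι ≫ p) n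
  have hΩ' : FlatMod.IsFinLocFree (Omega.sheaf (V.ι ≫ p)) := OX.isFinLocFree_of_rank' hΩ
  let L := ExtPowX.wedge (Omega.sheaf (V.ι ≫ p)) n
  have hL : ExtPow.IsExtPow n (Omega.sheaf (V.ι ≫ p)) L := ExtPowX.isExtPow_wedge hΩ' n
  obtain ⟨eL⟩ := ExtPowX.nonempty_iso (isExtPow_restrict V hW) hL eΩ'
  obtain ⟨eS⟩ := SmoothDual22.nonempty_shriekC_smooth n (V.ι ≫ p) cV hc adj O hO L hL
  let eV : (OX.resD V.ι).obj K ≅ (DCoh.inD (V : Scheme.{u}) L)⟦(n : ℤ)⟧ :=
    (OX.resDCompIso V.ι c.j).app (a.obj O).obj ≪≫ eS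
  let eH : (DCoh.HD K (-(n : ℤ))).restrict V.ι ≅ L :=
    (OX.HDResIso V.ι K (-(n : ℤ))).symm ≪≫ (DerivedCategory.homologyFunctor _ (-(n : ℤ))).mapIso eV ≪≫
      ((DerivedCategory.homologyFunctor _ 0).shiftIso (n : ℤ) (-(n : ℤ)) 0 (by omega)).app _ ≪≫
      (DerivedCategory.singleFunctorCompHomologyFunctorIso (V : Scheme.{u}).Modules 0).app L
  have hLinv : PicF.IsInvertible L := CanonTriv.isInvertible_of_isExtPow hΩ hL
  have hne : ¬ IsZero (DCoh.HD K (-(n : ℤ))) := fun hz =>
    isNonzero_of_isInvertible hLinv (((Scheme.Modules.restrictFunctor V.ι).map_isZero hz).of_iso eH.symm)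
  -- the dualizing complex
  have hlt : ∀ i : ℤ, i < -(n : ℤ) → IsZero (DCoh.HD K i) := fun i hi =>
    OX.isZero_of_subsingleton_stalks _ fun x => not_nontrivial_iff_subsingleton.1 fun hnt => by
      have := ShriekBridge22.le_of_nontrivial_stalk p c hc adj O hO x
        ((iInf_le _ ⟨⊤, trivial⟩).trans (Topology.IsInducing.subtypeVal.topologicalKrullDim_le.trans
          ((Scheme.Hom.fiberι p (p x)).isEmbedding.isInducing.topologicalKrullDim_le.trans hdim.le))) i hnt
      omega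
  have hO0 := ShriekBridge22.isGE_zero_of_iso_structure hO
  obtain ⟨s⟩ := RightAdj22.nonempty_shriekC c hc adj
  let eK : K ≅ ((RightAdj22.shB c.j c.fbar).obj ⟨O, 0, hO0⟩).obj.obj := s.app ⟨O, 0, hO0⟩
  haveI := c.isProper
  haveI : LocallyOfFiniteType (c.j ≫ c.fbar) := by rw [c.fac]; infer_instance
  have hOd : Dual2.IsDualizingSch (Spec (CommRingCat.of k)) O.obj := by
    refine GrothLib.DualRing.isDualizingSch_of_dualCharts fun x => ?_
    obtain ⟨e⟩ := GrothLib.ShriekBridge22.nonempty_resD_unit (𝟙 (Spec (CommRingCat.of k))) hO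
    exact ⟨k, inferInstance, 𝟙 _, inferInstance, ⟨x, rfl⟩, _, GrothLib.ShriekBridge22.isDualizing_field k, ⟨e⟩⟩
  have hK : Dual2.IsDualizingSch X K := fun A _ j _ => by
    obtain ⟨ω, hω, ⟨r⟩⟩ := ShriekBridge22.isDualizingSch_shB c.j c.fbar (⟨O, 0, hO0⟩ : RightAdj22.BQ _) hOd A j
    exact ⟨ω, hω, ⟨(DCoh.restrictD j).mapIso eK ≪≫ r⟩⟩
  have hcoh : Coh.IsCoh (DCoh.HD K (-(n : ℤ))) := ShriekBridge22.isCoh_HD_shriekC_O p c hc adj O hO _
  have hR := DualRing.isReflexive_stalk_bottom hX hK (-(n : ℤ)) hlt hne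
  have hWc : Coh.IsCoh W := DetMod12.isCoh_of_isExtPow
    ⟨OmegaSheaf.isQuasicoherent_sheaf p, OmegaSheaf.isFT_sheaf p⟩ hW
  have hgen : ∀ x ∈ V, ∃ (T : X.Opens) (e : Γ(W, T)), x ∈ T ∧ InvExt.IsGen W T e := fun x hx =>
    RhoShBig.exists_gen_of_isExtPow hW V (OX.isFinLocFreeOfRank_of_iso eΩ'.symm hΩ) hx
  obtain ⟨e₁⟩ := nonempty_iso_ddual hX hcoh hR V hcod hgen (eH ≪≫ eL.symm)
  obtain ⟨e₂⟩ := nonempty_ddual_iso hWc
  exact ⟨e₁ ≪≫ e₂⟩

end GrothLib.NormalDual22
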